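import Cfsg.Agent.Lib.BSW.Sect
import Cfsg.Agent.Lib.BSW.Chars2

/-!
The principal `2`-block when the centralizer of an involution is `Z₂ × A₄` modulo its core.
-/

open scoped ComplexConjugate
open Subgroup

namespace Cfsg.Lib.BSW

variable {G : Type*} [Group G]

section lift

open Classical in
/-- twice `Φ` on the section of the central involution `t`, zero elsewhere -/
noncomputable def oddLift (t : G) (Φ : G → ℂ) : G → ℂ :=
  fun x => if 2 ∣ orderOf (t * x) then 0 else 2 * Φ (t * x)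

variable [Fintype G] {t : G} (ht : ∀ g, g * t = t * g) (ht2 : t ^ 2 = 1) (ht1 : t ≠ 1)
  {Φ : G → ℂ} (hΦ : IsGeneralizedCharacter G Φ) (h1 : ∀ x, Φ (t * x) = Φ x)
  (h2 : ∀ x, 2 ∣ orderOf x → 2 ∣ orderOf (t * x) → Φ x = 0)

include ht ht2 ht1 hΦ h1 h2 in
theorem isGen_oddLift : IsGeneralizedCharacter G (oddLift t Φ) :=
  (isGen_odd_part hΦ ht ht2 ht1 h1 h2).translate ht ht2

include ht ht2 in
theorem oddLift_zero {x : G} (hx : ¬ PRel 2 t x) : oddLift t Φ x = 0 := by
  rw [pRel_central_iff ht ht2, not_not] at hx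
  exact if_pos hx

include ht ht2 h1 in
theorem oddLift_sect {x : G} (hx : PRel 2 t x) : oddLift t Φ x = 2 * Φ x := by
  rw [pRel_central_iff ht ht2] at hx
  exact (if_neg hx).trans (by rw [h1])

include ht ht2 ht1 h1 h2 in
theorem classInner_oddLift {f : G → ℂ} (hf : ∀ x, f (t * x) = f x) :
    classInner (oddLift t Φ) f = classInner Φ f := by
  classical
  unfold classInner
  congr 1
  let g : G → ℂ := fun x => if 2 ∣ orderOf x then 0 else Φ x * conj (f x)
  have e1 : ∑ x, oddLift t Φ x * conj (f x) = ∑ x, (g (t * x) + g (t * x)) := by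
    apply Finset.sum_congr rfl
    intro x _
    simp only [oddLift, g, hf]
    split_ifs <;> ring
  rw [e1, Finset.sum_add_distrib]
  nth_rewrite 1 [Fintype.sum_equiv (Equiv.mulLeft t) (fun x => g (t * x)) g (fun _ => rfl)]
  rw [← Finset.sum_add_distrib]
  apply Finset.sum_congr rfl
  intro x _
  simp only [g, hf, h1]
  by_cases h3 : 2 ∣ orderOf x
  · by_cases h4 : 2 ∣ orderOf (t * x)
    · simp [h3, h4, h2 x h3 h4]
    · simp [h3, h4]
  · simp [h3, not_two_dvd_orderOf_mul ht2 ht1 (ht x).symm h3]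

include ht ht2 ht1 h1 h2 in
theorem classInner_oddLift_oddLift {Ψ : G → ℂ} (h3 : ∀ x, Ψ (t * x) = Ψ x) :
    classInner (oddLift t Φ) (oddLift t Ψ) = 2 * classInner Φ Ψ := by
  have e : classInner (oddLift t Φ) (oddLift t Ψ) = classInner (oddLift t Φ) ((2 : ℂ) • Ψ) := by
    unfold classInner
    congr 1
    apply Finset.sum_congr rfl
    intro x _
    by_cases hx : PRel 2 t x
    · rw [oddLift_sect ht ht2 h3 hx]; rfl
    · simp [oddLift_zero ht ht2 hx]
  rw [e, classInner_oddLift ht ht2 ht1 h1 h2 (fun x => by simp [h3]), classInner_smul_right,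
    map_ofNat]

include ht ht2 ht1 hΦ h1 h2 in
theorem pb0_oddLift (h : pb0 2 Φ = Φ) : pb0 2 (oddLift t Φ) = oddLift t Φ :=
  pb0_pb0_of_support (isGen_oddLift ht ht2 ht1 hΦ h1 h2).isClassFunction
    (hΦ.isClassFunction.smul 2) (by rw [pb0, blockProj_smul, ← pb0, h])
    (fun _ hx => oddLift_sect ht ht2 h1 hx) (fun _ hx => oddLift_zero ht ht2 hx)

end lift

theorem zmod_three_pow : ∀ y : Multiplicative (ZMod 3), y ^ 3 = 1 := by decide

theorem exists_cube_root_hom (S : Subgroup G) [S.Normal] (h : S.index = 3) :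
    ∃ ω : G →* ℂ, (∀ x, ω x = 1 ↔ x ∈ S) ∧ ∀ x, ω x ^ 3 = 1 := by
  have : Fact (Nat.Prime 3) := ⟨Nat.prime_three⟩
  let e : G ⧸ S ≃* Multiplicative (ZMod 3) := mulEquivOfPrimeCardEq (p := 3) h (by simp)
  refine ⟨(ZMod.stdAddChar (N := 3)).toMonoidHom.comp (e.toMonoidHom.comp (QuotientGroup.mk' S)),
    fun x => ?_, fun x => ?_⟩
  · rw [← QuotientGroup.eq_one_iff, ← map_eq_one_iff e e.injective]
    exact map_eq_one_iff (ZMod.stdAddChar (N := 3)).toMonoidHom
      (ZMod.injective_stdAddChar.comp Multiplicative.toAdd.injective)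
  · rw [← map_pow, MonoidHom.comp_apply, MonoidHom.comp_apply, map_pow, map_pow,
      zmod_three_pow, map_one]

open Classical in
theorem a24_data [Fintype G] (hA : Nat.card G = 24) (S : Subgroup G) [S.Normal]
    (hS : Nat.card S = 8) (hsq : ∀ x ∈ S, x * x = 1) {t : G} (tS : t ∈ S) (t1 : t ≠ 1)
    (hc : ∀ g, g * t = t * g) (hfix : ∀ x ∉ S, ∀ s ∈ S, x * s = s * x → s = 1 ∨ s = t) :
    ∃ Θ : Fin 3 → G → ℂ, (∀ i, IsGeneralizedCharacter G (Θ i)) ∧
      (∀ i x, ¬ PRel 2 t x → Θ i x = 0) ∧ (∀ i, pb0 2 (Θ i) = Θ i) ∧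
      (∀ i j, classInner (Θ i) (Θ j) = if i = j then 4 else 2) ∧
      (∀ i, classInner (Θ i) 1 = if i = 0 then 1 else 0) ∧ (∀ i j, ∀ x ∈ S, Θ i x = Θ j x) ∧
      (∀ x, Θ 0 x + Θ 1 x + Θ 2 x = if x = t then 24 else 0) := by
  have : Fact (Nat.Prime 3) := ⟨Nat.prime_three⟩
  have t2 : t ^ 2 = 1 := by rw [sq, hsq t tS]
  have hi : S.index = 3 := by
    have := S.index_mul_card
    rw [hS, hA] at this; omega
  have hcube : ∀ x ∉ S, x ^ 3 = 1 ∨ (t * x) ^ 3 = 1 := by
    intro x hx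
    refine (hfix x hx _ (hi ▸ S.pow_index_mem x) ((Commute.refl x).pow_right 3).eq).imp_right
      (fun e => ?_)
    rw [(show Commute t x from (hc x).symm).mul_pow, e, ← pow_succ, show 3 + 1 = 2 * 2 by rfl,
      pow_mul, t2, one_pow]
  have hsum : ∀ {R : Type} [CommSemiring R] (a b c : R),
      ∑ x : G, (if x = 1 ∨ x = t then a else if x ∈ S then b else c) = 2 * a + 6 * b + 16 * c := by
    intro R _ a b c
    have c1 : (Finset.univ.filter (fun x : G => x = 1 ∨ x = t)).card = 2 := by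
      rw [← Finset.card_pair t1.symm]; congr 1; ext; simp
    have c2 : (Finset.univ.filter (fun x : G => x ∈ S)).card = 8 := by
      rw [← hS, Nat.card_eq_fintype_card, Fintype.card_subtype]
    have c3 := Finset.card_filter_add_card_filter_not (s := Finset.univ.filter (fun x : G => x ∈ S))
      (fun x : G => x = 1 ∨ x = t)
    have c4 := Finset.card_filter_add_card_filter_not (s := Finset.univ) (fun x : G => x ∈ S)
    rw [Finset.card_univ, ← Nat.card_eq_fintype_card, hA, c2] at c4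
    rw [c2, Finset.filter_filter, Finset.filter_filter,
      Finset.filter_congr (q := fun x : G => x = 1 ∨ x = t) (fun x _ => ⟨fun h => h.2, fun h =>
        ⟨by rcases h with rfl | rfl; exacts [one_mem _, tS], h⟩⟩), c1] at c3
    rw [Finset.sum_ite, Finset.sum_ite, Finset.filter_filter, Finset.filter_filter,
      Finset.filter_congr (p := fun x : G => ¬(x = 1 ∨ x = t) ∧ x ∉ S) (q := fun x => x ∉ S)
        (fun x _ => ⟨fun h => h.2, fun h =>
        ⟨by rintro (rfl | rfl); exacts [h (one_mem _), h tS], h⟩⟩),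
      Finset.filter_congr (p := fun x : G => ¬(x = 1 ∨ x = t) ∧ x ∈ S)
        (q := fun x => x ∈ S ∧ ¬(x = 1 ∨ x = t)) (fun x _ => and_comm)]
    simp only [Finset.sum_const, nsmul_eq_mul]
    rw [c1, show (Finset.univ.filter (fun x : G => x ∈ S ∧ ¬(x = 1 ∨ x = t))).card = 6 by omega,
      show (Finset.univ.filter (fun x : G => x ∉ S)).card = 16 by omega]
    push_cast; ring
  -- the permutation character on Sylow `3`-subgroups
  have hP3 : ∀ P : Sylow 3 G, Nat.card (P : Subgroup G) = 3 := fun P => by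
    rw [P.card_eq_multiplicity, hA, show 24 = 3 ^ 1 * 8 from rfl,
      Nat.factorization_mul (by norm_num) (by norm_num), Nat.Prime.factorization_pow Nat.prime_three]
    simp [Nat.factorization_eq_zero_of_not_dvd (show ¬ 3 ∣ 8 by norm_num)]
  have hn3 : Nat.card (Sylow 3 G) = 4 := by
    obtain ⟨P⟩ : Nonempty (Sylow 3 G) := inferInstance
    have h1 := card_sylow_modEq_one 3 G
    have h2 := P.card_dvd_index
    have h3 := (P : Subgroup G).index_mul_card
    rw [hP3, hA] at h3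
    rw [show (P : Subgroup G).index = 8 by omega] at h2
    have h4 : Nat.card (Sylow 3 G) ≠ 1 := by
      intro h4
      have : Subsingleton (Sylow 3 G) := (Nat.card_eq_one_iff_unique.1 h4).1
      have hn := P.normal_of_subsingleton
      obtain ⟨g, hg⟩ := exists_prime_orderOf_dvd_card' (G := P) 3 (by rw [hP3])
      have hdis : Disjoint (P : Subgroup G) S :=
        disjoint_of_coprime_natCard (by rw [hP3, hS]; norm_num)
      have hg1 : (g : G) ≠ 1 := fun e => by
        rw [show g = 1 from Subtype.ext e, orderOf_one] at hg; omega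
      have h5 : Nat.card S ≤ Nat.card (zpowers t) := card_le_of_le (fun s hs => by
        rcases hfix g (fun h => hg1 (disjoint_def.1 hdis g.2 h)) s hs
          (commute_of_normal_of_disjoint _ _ hn inferInstance hdis g s g.2 hs) with rfl | rfl
        exacts [one_mem _, mem_zpowers _])
      rw [Nat.card_zpowers, orderOf_eq_prime t2 t1, hS] at h5
      omega
    have := Nat.le_of_dvd (by norm_num) h2
    unfold Nat.ModEq at h1
    interval_cases Nat.card (Sylow 3 G) <;> omega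
  have htP : ∀ P : Sylow 3 G, t • P = P := fun P => by
    rw [Sylow.smul_eq_iff_mem_normalizer]
    exact centralizer_le_normalizer _ (fun x _ => hc x)
  have hπ : ∀ x, Nat.card {P : Sylow 3 G // x • P = P} =
      if x = 1 ∨ x = t then 4 else if x ∈ S then 0 else 1 := by
    have := Fintype.ofFinite (Sylow 3 G)
    have h1 := MulAction.sum_card_fixedBy_eq_card_orbits_mul_card_group G (Sylow 3 G)
    have h2 : Fintype.card (Quotient (MulAction.orbitRel G (Sylow 3 G))) = 1 :=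
      Fintype.card_eq_one_iff_nonempty_unique.2
        (MulAction.pretransitive_iff_unique_quotient_of_nonempty G (Sylow 3 G) |>.1 inferInstance)
    rw [h2, one_mul, ← Nat.card_eq_fintype_card, hA] at h1
    have h3 : ∀ x ∈ Finset.univ, (if x = 1 ∨ x = t then 4 else if x ∈ S then 0 else 1) ≤
        Fintype.card (MulAction.fixedBy (Sylow 3 G) x) := by
      intro x _
      split_ifs with h4 h5
      · rw [← hn3, Nat.card_eq_fintype_card]
        refine Fintype.card_le_of_injective (fun P => ⟨P, ?_⟩) (fun P Q e => Subtype.mk.inj e)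
        rcases h4 with rfl | rfl
        exacts [one_smul _ _, htP P]
      · exact Nat.zero_le _
      · rw [Nat.one_le_iff_ne_zero, Ne, Fintype.card_eq_zero_iff, not_isEmpty_iff]
        have key : ∀ y : G, y ^ 3 = 1 → ∃ P : Sylow 3 G, y • P = P := by
          intro y hy
          obtain ⟨P, hP⟩ := (isPGroup_zpowers_of_pow (p := 3) (k := 1) (u := y)
            (by simpa using hy)).exists_le_sylow
          exact ⟨P, Sylow.smul_eq_iff_mem_normalizer.2 (le_normalizer (hP (mem_zpowers y)))⟩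
        rcases hcube x h5 with h | h
        · obtain ⟨P, hP⟩ := key x h
          exact ⟨⟨P, hP⟩⟩
        · obtain ⟨P, hP⟩ := key _ h
          rw [← hc, mul_smul, htP] at hP
          exact ⟨⟨P, hP⟩⟩
    intro x
    rw [Nat.card_eq_fintype_card]
    exact ((Finset.sum_eq_sum_iff_of_le h3).1 (by rw [h1, hsum]; norm_num) x
      (Finset.mem_univ x)).symm
  let χ : G → ℂ := fun x => if x = 1 ∨ x = t then 3 else if x ∈ S then -1 else 0
  have gχ : IsGeneralizedCharacter G χ := by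
    convert (isCharacter_perm (G := G) (Sylow 3 G)).isGen.sub isGen_one using 1
    ext x
    simp only [χ, Pi.sub_apply, hπ, Pi.one_apply]
    split_ifs <;> norm_num
  have hχ1 : χ 1 = 3 := if_pos (Or.inl rfl)
  have iχ : IsIrrCharacter G χ := by
    obtain ⟨η, hη, e | e⟩ := gχ.eq_of_inner_self_one (by
      rw [classInner, Finset.sum_congr rfl (g := fun x => if x = 1 ∨ x = t then (9 : ℂ) else
        if x ∈ S then 1 else 0) (fun x _ => by
          simp only [χ]; split_ifs <;> simp [map_ofNat]; norm_num), hsum, hA]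
      norm_num)
    · rwa [e]
    · obtain ⟨d, hd⟩ := hη.isCharacter.exists_one_eq
      rw [e, Pi.neg_apply, hd] at hχ1
      have : -(d : ℤ) = 3 := by exact_mod_cast hχ1
      omega
  have hreg : ∀ x, x ≠ 1 → ¬ 2 ∣ orderOf x → χ x = 0 := by
    intro x hx h2
    have : x ∉ S := fun h => h2 (by rw [orderOf_two_of_mul_self hx (hsq x h)])
    simp only [χ]
    rw [if_neg (by rintro (rfl | rfl); exacts [this (one_mem _), this tS]), if_neg this]
  have bχ : InB0 2 χ := inB0_of_inner_ne_zero iχ isIrrCharacter_one inB0_one (by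
    rw [classInner, Finset.sum_eq_single 1 (fun x _ hx => by
      split_ifs with h <;> simp [hreg x hx, *]) (by simp), hA]
    simp [hχ1])
  obtain ⟨ω, hω, hω3⟩ := exists_cube_root_hom S hi
  have iω : ∀ i : ℕ, IsIrrCharacter G (ω ^ i : G →* ℂ) := fun i => isIrrCharacter_of_hom _
  have bω : ∀ i : ℕ, InB0 2 (ω ^ i : G →* ℂ) := fun i => inB0_of_inner_ne_zero (iω i) iχ bχ (by
    rw [classInner, Finset.sum_eq_single 1 (fun x _ hx => by
      split_ifs with h <;> simp [hreg x hx, *]) (by simp), hA]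
    simp [hχ1])
  have nω : ∀ i : ℕ, ((ω ^ i : G →* ℂ) : G → ℂ) ≠ χ := fun i e => by
    have := congrFun e 1
    rw [map_one, hχ1] at this
    norm_num at this
  have hz : ∀ x ∉ S, 1 + ω x + ω x ^ 2 = 0 := fun x hx => by
    have h1 : ω x - 1 ≠ 0 := fun e => hx ((hω x).1 (sub_eq_zero.1 e))
    apply mul_left_cancel₀ h1
    linear_combination hω3 x
  have oω : ∀ i j : Fin 3, classInner (ω ^ (i : ℕ) : G →* ℂ) (ω ^ (j : ℕ) : G →* ℂ) =
      if i = j then 1 else 0 := by
    intro i j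
    split_ifs with h
    · rw [h, (iω j).inner_self]
    · refine (iω i).inner_of_ne (iω j) (fun e => h ?_)
      obtain ⟨g, hg⟩ : ∃ g, g ∉ S := by
        by_contra! h
        rw [show S = ⊤ from eq_top_iff.2 (fun g _ => h g), index_top] at hi
        omega
      have h1 : IsPrimitiveRoot (ω g) 3 := (IsPrimitiveRoot.iff_orderOf).2
        (orderOf_eq_prime (hω3 g) (fun e => hg ((hω g).1 e)))
      exact Fin.ext (h1.pow_inj i.2 j.2 (by simpa using congrFun e g))
  let Φ : Fin 3 → G → ℂ := fun i => (ω ^ (i : ℕ) : G →* ℂ) + χ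
  have gΦ : ∀ i, IsGeneralizedCharacter G (Φ i) := fun i => (iω i).isGen.add gχ
  have htt : ∀ x, t * (t * x) = x := fun x => by rw [← mul_assoc, hsq t tS, one_mul]
  have hχt : ∀ x, χ (t * x) = χ x := fun x => by
    have e1 : (t * x = 1 ∨ t * x = t) ↔ (x = 1 ∨ x = t) := by
      rw [or_comm, mul_eq_left, mul_eq_one_iff_eq_inv', inv_eq_of_mul_eq_one_left (hsq t tS)]
    simp only [χ, e1, S.mul_mem_cancel_left tS]
  have hΦt : ∀ i x, Φ i (t * x) = Φ i x := fun i x => by simp [Φ, hχt, (hω t).2 tS]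
  have hodd : ∀ x : G, x ^ 3 = 1 → ¬ 2 ∣ orderOf x := fun x hx h =>
    absurd (h.trans (orderOf_dvd_of_pow_eq_one hx)) (by norm_num)
  have hΦ0 : ∀ i x, 2 ∣ orderOf x → 2 ∣ orderOf (t * x) → Φ i x = 0 := by
    intro i x h1 h2
    have h3 : x ∈ S := by
      by_contra h3
      exact (hcube x h3).elim (fun h => hodd _ h h1) (fun h => hodd _ h h2)
    have h4 : ¬ (x = 1 ∨ x = t) := by
      rintro (rfl | rfl)
      · simp at h1
      · simp [hsq x h3] at h2
    simp [Φ, χ, h3, h4, (hω x).2 h3]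
  refine ⟨fun i => oddLift t (Φ i), fun i => isGen_oddLift hc t2 t1 (gΦ i) (hΦt i) (hΦ0 i),
    fun i x hx => oddLift_zero hc t2 hx, fun i => pb0_oddLift hc t2 t1 (gΦ i) (hΦt i) (hΦ0 i) ?_,
    fun i j => ?_, fun i => ?_, fun i j x hx => ?_, fun x => ?_⟩
  · rw [pb0, blockProj_add, ← pb0, ← pb0, pb0_irr_of_inB0 (iω i) (bω i), pb0_irr_of_inB0 iχ bχ]
  · rw [classInner_oddLift_oddLift hc t2 t1 (hΦt i) (hΦ0 i) (hΦt j)]
    simp only [Φ, classInner_add_left, classInner_add_right, oω, iχ.inner_self,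
      (iω _).inner_of_ne iχ (nω _), iχ.inner_of_ne (iω _) (nω _).symm]
    split_ifs <;> norm_num
  · rw [classInner_oddLift hc t2 t1 (hΦt i) (hΦ0 i) (fun _ => rfl)]
    have e : (1 : G → ℂ) = (ω ^ ((0 : Fin 3) : ℕ) : G →* ℂ) := by ext; simp
    rw [e]
    simp only [Φ, classInner_add_left, oω, iχ.inner_of_ne (iω _) (nω _).symm, add_zero]
  · simp [oddLift, Φ, (hω x).2 hx, (hω t).2 tS]
  · simp only [oddLift, hΦt]
    by_cases h1 : 2 ∣ orderOf (t * x)
    · rw [if_neg (show x ≠ t by rintro rfl; simp [hsq x tS] at h1)]; simp [h1]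
    · simp only [if_neg h1]
      by_cases h2 : x = t
      · subst h2
        simp [Φ, χ, (hω x).2 tS]; norm_num
      · have h3 : t * x ≠ 1 := fun e => h2 (by rw [← htt x, e, mul_one])
        have h4 := hreg _ h3 h1
        have h5 : x ∉ S := fun h => h1 (by rw [orderOf_two_of_mul_self h3 (hsq _ (mul_mem tS h))])
        rw [hχt] at h4
        simp only [Φ, Pi.add_apply, h4, if_neg h2, MonoidHom.pow_apply]
        simp only [Fin.val_zero, Fin.val_one, Fin.val_two]
        linear_combination 2 * hz x h5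

theorem e8_arith {z p q : ℤ} {a : ℤ} (ha : a = 1 ∨ a = 2) (h1 : 1 + z = p + q)
    (h2 : z * p * q + a ^ 2 * p * q - a ^ 2 * z * q - z * p = 0) (hz : |a| < |z|) (hp : |a| < |p|)
    (hq : |1| < |q|) (mz : 8 ∣ z + 7 * a) (mp : 8 ∣ p + 7 * a) (sz : 0 ≤ (z + 7 * a) * z) :
    False := by
  obtain rfl : q = 1 + z - p := by omega
  rcases ha with rfl | rfl
  · have : (z + 1) * (p - 1) * (z - p) = 0 := by linear_combination h2
    simp only [mul_eq_zero] at this
    rcases this with (h | h) | h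
    · rw [show z = -1 by omega] at hz; simp at hz
    · rw [show p = 1 by omega] at hp; simp at hp
    · rw [show 1 + z - p = 1 by omega] at hq; simp at hq
  · have : (z - p) * ((z + 4) * (p - 4) + 12) = 0 := by linear_combination h2
    rcases mul_eq_zero.1 this with h | h
    · rw [show 1 + z - p = 1 by omega] at hq; simp at hq
    · have h3 : z + 4 ∣ 12 := ⟨4 - p, by linear_combination h⟩
      have h4 := Int.le_of_dvd (by norm_num) h3
      have h5 := Int.le_of_dvd (by norm_num) ((neg_dvd).2 h3)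
      have h6 : z = 2 ∨ z = -6 ∨ z = -14 := by omega
      rcases h6 with rfl | rfl | rfl
      · simp at hz
      · norm_num at sz
      · omega

theorem abs_le_two_of_sq {a : ℤ} (h : a ^ 2 ≤ 4) : -2 ≤ a ∧ a ≤ 2 := by
  constructor <;> nlinarith

theorem e8_int {x y z p q : ℤ} (h1 : 0 + x + y + z = 2) (h2 : x + y + p + q = 2)
    (h3 : 0 ≤ 4 - (x ^ 2 + y ^ 2 + z ^ 2 + p ^ 2 + q ^ 2)) (h4 : q ≤ p) :
    (q = 0 ∧ p = z ∧ (z = 0 ∨ z = 1)) ∨ (x = 1 ∧ y = 1 ∧ z = 0 ∧ p = 1 ∧ q = -1) := by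
  have := sq_nonneg x; have := sq_nonneg y; have := sq_nonneg z
  have := sq_nonneg p; have := sq_nonneg q
  obtain ⟨a1, a2⟩ := abs_le_two_of_sq (a := x) (by omega)
  obtain ⟨b1, b2⟩ := abs_le_two_of_sq (a := y) (by omega)
  obtain ⟨c1, c2⟩ := abs_le_two_of_sq (a := p) (by omega)
  obtain rfl : z = 2 - x - y := by omega
  obtain rfl : q = 2 - x - y - p := by omega
  interval_cases x <;> interval_cases y <;> interval_cases p <;> omega

theorem eq_zero_of_sum_sq_le_one {x y z : ℤ} (h1 : x + y + z = 0) (h2 : x ^ 2 + y ^ 2 + z ^ 2 ≤ 1) :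
    x = 0 ∧ y = 0 ∧ z = 0 := by
  have := sq_nonneg x; have := sq_nonneg y; have := sq_nonneg z
  obtain ⟨a1, a2⟩ := abs_le_two_of_sq (a := x) (by omega)
  obtain ⟨b1, b2⟩ := abs_le_two_of_sq (a := y) (by omega)
  obtain rfl : z = - x - y := by omega
  interval_cases x <;> interval_cases y <;> simp_all

theorem gcDeg_zero' : gcDeg (0 : genChars G) = 0 := by
  have := gcDeg_add (G := G) 0 0
  simpa using this

theorem bessel_five [Fintype G] (a V W X Y Z : genChars G) (hV : ip V V = 1) (hW : ip W W = 1)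
    (hX : ip X X = 1) (hY : ip Y Y = 1) (hZ : ip Z Z = 1) (h1 : ip W X = 0) (h2 : ip W Y = 0)
    (h3 : ip W Z = 0) (h4 : ip X Y = 0) (h5 : ip X Z = 0) (h6 : ip Y Z = 0) (h7 : ip V W = 0)
    (h8 : ip V X = 0) (h9 : ip V Y = 0) (h10 : ip V Z = 0) :
    ip (a - ip a V • V - ip a W • W - ip a X • X - ip a Y • Y - ip a Z • Z)
      (a - ip a V • V - ip a W • W - ip a X • X - ip a Y • Y - ip a Z • Z) =
    ip a a - (ip a V ^ 2 + ip a W ^ 2 + ip a X ^ 2 + ip a Y ^ 2 + ip a Z ^ 2) := by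
  simp only [map_sub, AddMonoidHom.sub_apply, map_zsmul, AddMonoidHom.zsmul_apply, ip_comm W a,
    ip_comm X a, ip_comm Y a, ip_comm Z a, ip_comm X W, ip_comm Y W, ip_comm Z W, ip_comm Y X,
    ip_comm Z X, ip_comm Z Y, h1, h2, h3, h4, h5, h6, hW, hX, hY, hZ, smul_eq_mul, ip_comm V a,
    ip_comm W V, ip_comm X V, ip_comm Y V, ip_comm Z V, h7, h8, h9, h10, hV]
  ring

section global

variable [Fintype G] {t : G} (ht : orderOf t = 2) (hconj : ∀ x : G, orderOf x = 2 → IsConj t x)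
  {D₁ D₂ D₃ : genChars G} (h22 : ip D₂ D₂ = 4) (h33 : ip D₃ D₃ = 4)
  (h13 : ip D₃ D₁ = 2) (h23 : ip D₃ D₂ = 2) (o2 : ip D₂ (gcOne G) = 0) (o3 : ip D₃ (gcOne G) = 0)
  (d1 : gcDeg D₁ = 0) (d2 : gcDeg D₂ = 0) (d3 : gcDeg D₃ = 0)
  (hval : ∀ X : genChars G, ip X X = 1 → (ip D₁ X ≠ 0 ∨ ip D₂ X ≠ 0) →
    (X : G → ℂ) t = (ip D₁ X + ip D₂ X + ip D₃ X : ℤ))
  (hJ : ∑ x, (invPairs x : ℂ) * (D₁ : G → ℂ) x = ∑ x, (invPairs x : ℂ) * (D₂ : G → ℂ) x)
  (hX : ∀ X : genChars G, ip X X = 1 → ip X (gcOne G) = 0 → ∀ v : ℤ, (X : G → ℂ) t = v →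
    |v| < |gcDeg X| ∧ 8 ∣ gcDeg X + 7 * v ∧ 0 ≤ (gcDeg X + 7 * v) * gcDeg X)

include ht hconj h33 h13 h23 o3 d1 d2 d3 hval hJ hX in
theorem e8_core {X Y Z P Q : genChars G} (nX : ip X X = 1) (nY : ip Y Y = 1) (nZ : ip Z Z = 1)
    (nP : ip P P = 1) (nQ : ip Q Q = 1) (xy : ip X Y = 0) (xz : ip X Z = 0) (yz : ip Y Z = 0)
    (xp : ip X P = 0) (xq : ip X Q = 0) (yp : ip Y P = 0) (yq : ip Y Q = 0) (zp : ip Z P = 0)
    (zq : ip Z Q = 0) (pq : ip P Q = 0) (z1 : ip Z (gcOne G) = 0) (p1 : ip P (gcOne G) = 0)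
    (q1 : ip Q (gcOne G) = 0) (e1 : D₁ = gcOne G + X + Y + Z) (e2 : D₂ = X + Y + P + Q)
    (hpq : ip D₃ Q ≤ ip D₃ P) : False := by
  classical
  have b := bessel_five D₃ X Y Z P Q nX nY nZ nP nQ yz yp yq zp zq pq xy xz xp xq
  have b0 := ip_self_nonneg
    (D₃ - ip D₃ X • X - ip D₃ Y • Y - ip D₃ Z • Z - ip D₃ P • P - ip D₃ Q • Q)
  rw [e1, map_add, map_add, map_add, o3] at h13
  rw [e2, map_add, map_add, map_add] at h23
  rw [e1, gcDeg_add, gcDeg_add, gcDeg_add, gcDeg_one] at d1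
  rw [e2, gcDeg_add, gcDeg_add, gcDeg_add] at d2
  have vZ := hval Z nZ (Or.inl (by
    simp [e1, ip_comm (gcOne G) Z, z1, xz, yz, nZ]))
  have vP := hval P nP (Or.inr (by simp [e2, xp, yp, nP, ip_comm Q P, pq]))
  have vQ := hval Q nQ (Or.inr (by simp [e2, xq, yq, nQ, pq]))
  simp only [e1, e2, map_add, AddMonoidHom.add_apply, ip_comm (gcOne G), z1, p1, q1, xz, yz, nZ,
    ip_comm P Z, ip_comm Q Z, zp, zq, xp, yp, nP, ip_comm Q P, pq, xq, yq, nQ, zero_add,
    add_zero] at vZ vP vQ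
  have hcase : ip D₃ Q = 0 ∧ ip D₃ P = ip D₃ Z ∧ (ip D₃ Z = 0 ∨ ip D₃ Z = 1) := by
    rw [b, h33] at b0
    refine (e8_int h13 h23 b0 hpq).resolve_right ?_
    rintro ⟨k10, k11, k9, k8, k7⟩
    rw [h33, k7, k8, k9, k10, k11] at b
    have := congrArg gcDeg (eq_zero_of_ip_self _ b)
    simp only [one_zsmul, zero_zsmul, sub_zero, neg_zsmul, sub_neg_eq_add, gcDeg_add,
      gcDeg_sub, d3] at this
    rw [gcDeg_zero'] at this
    exact gcDeg_ne_zero nQ (by omega)
  obtain ⟨k1, k2, k3⟩ := hcase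
  rw [k1] at vQ
  rw [k2] at vP
  obtain ⟨a1, a2, a3⟩ := hX Z nZ z1 _ vZ
  obtain ⟨b1, b2, -⟩ := hX P nP p1 _ vP
  obtain ⟨c1, -, -⟩ := hX Q nQ q1 _ vQ
  refine e8_arith (a := 1 + ip D₃ Z) (by omega) (by omega) ?_ a1 b1 c1 a2 b2 a3
  have f1 := invPairs_formula hconj (ip_one_one (G := G))
  have fZ := invPairs_formula hconj nZ
  have fP := invPairs_formula hconj nP
  have fQ := invPairs_formula hconj nQ
  rw [e1, e2] at hJ
  simp only [AddSubgroup.coe_add, Pi.add_apply, mul_add, Finset.sum_add_distrib] at hJ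
  rw [vZ] at fZ; rw [vP] at fP; rw [vQ] at fQ
  rw [gcDeg_one, gcOne_apply] at f1
  have hn : ((Finset.univ.filter (fun u : G => orderOf u = 2)).card : ℂ) ^ 2 ≠ 0 := by
    apply pow_ne_zero
    exact_mod_cast Finset.card_ne_zero.2 ⟨t, by simp [ht]⟩
  apply Int.cast_injective (α := ℂ)
  apply mul_left_cancel₀ hn
  push_cast at f1 fZ fP fQ ⊢
  linear_combination (gcDeg Z * gcDeg P * gcDeg Q : ℂ) * (hJ - f1) - gcDeg P * gcDeg Q * fZ +
    gcDeg Z * gcDeg Q * fP + gcDeg Z * gcDeg P * fQ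

include ht hconj h22 h33 h13 h23 o2 o3 d1 d2 d3 hval hJ hX in
theorem e8_core' {X Y Z : genChars G} (nX : ip X X = 1) (nY : ip Y Y = 1) (nZ : ip Z Z = 1)
    (xy : ip X Y = 0) (xz : ip X Z = 0) (yz : ip Y Z = 0) (x1 : ip X (gcOne G) = 0)
    (y1 : ip Y (gcOne G) = 0) (z1 : ip Z (gcOne G) = 0) (e1 : D₁ = gcOne G + X + Y + Z)
    (a1 : ip D₂ X = 1) (a2 : ip D₂ Y = 1) (a3 : ip D₂ Z = 0) : False := by
  obtain ⟨P, Q, nP, nQ, pq, e⟩ := exists_two_of_ip_eq_two (a := D₂ - X - Y) (by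
    simp only [map_sub, AddMonoidHom.sub_apply, h22, a1, a2, ip_comm X D₂, ip_comm Y D₂, nX, nY, xy,
      ip_comm Y X]; norm_num)
  have key : ∀ W, ip W W = 1 → ip (D₂ - X - Y) W = 0 → ip W P = 0 ∧ ip W Q = 0 := by
    intro W hW h
    rw [e, map_add, AddMonoidHom.add_apply, ip_comm P, ip_comm Q] at h
    have := bessel_two W P Q nP nQ pq
    exact (eq_zero_of_sum_sq_le_one (x := 0) (by omega) (by omega)).2
  obtain ⟨xp, xq⟩ := key X nX (by simp [a1, nX, ip_comm Y X, xy])
  obtain ⟨yp, yq⟩ := key Y nY (by simp [a2, nY, xy])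
  obtain ⟨zp, zq⟩ := key Z nZ (by simp [a3, xz, yz])
  obtain ⟨p1, q1⟩ := key _ ip_one_one (by simp [o2, x1, y1])
  rw [ip_comm] at p1 q1
  rcases le_total (ip D₃ Q) (ip D₃ P) with h | h
  · exact e8_core ht hconj h33 h13 h23 o3 d1 d2 d3 hval hJ hX nX nY nZ nP nQ xy xz yz xp xq yp yq
      zp zq pq z1 p1 q1 e1 (by rw [add_assoc, ← e]; abel) h
  · exact e8_core ht hconj h33 h13 h23 o3 d1 d2 d3 hval hJ hX nX nY nZ nQ nP xy xz yz xq xp yq yp
      zq zp (by rw [ip_comm, pq]) z1 q1 p1 e1 (by rw [add_assoc, add_comm Q, ← e]; abel) h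

include ht hconj h22 h33 h13 h23 o2 o3 d1 d2 d3 hval hJ hX in
theorem e8_global (h11 : ip D₁ D₁ = 4) (h12 : ip D₂ D₁ = 2) (o1 : ip D₁ (gcOne G) = 1) : False := by
  obtain ⟨X, Y, Z, nX, nY, nZ, xy, xz, yz, e⟩ := exists_three_of_ip_eq_three (a := D₁ - gcOne G)
    (by rw [ip_sub_self, h11, o1, ip_one_one]; norm_num)
  have e1 : D₁ = gcOne G + X + Y + Z := by rw [add_assoc, add_assoc, ← add_assoc X, ← e]; abel
  have k : ip (gcOne G) X + ip (gcOne G) Y + ip (gcOne G) Z = 0 := by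
    rw [← map_add, ← map_add, ← e, map_sub, ip_comm, o1, ip_one_one, sub_self]
  have b := bessel_three (gcOne G) X Y Z nX nY nZ xy xz yz
  rw [ip_one_one] at b
  obtain ⟨x1, y1, z1⟩ := eq_zero_of_sum_sq_le_one k b
  rw [ip_comm] at x1 y1 z1
  have h12' := h12
  rw [e1, map_add, map_add, map_add, o2] at h12'
  have two : ∀ W, ip W W = 1 → ip D₂ W ≤ 1 := by
    intro W hW
    have h1 := ip_sub_zsmul D₂ W hW
    have h2 := ip_self_nonneg (D₂ - ip D₂ W • W)
    by_contra h3
    have h4 : ip D₂ W = 2 := by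
      have := (abs_le_two_of_sq (a := ip D₂ W) (by omega)).2
      omega
    rw [h22, h4] at h1
    have := congrArg gcDeg (eq_zero_of_ip_self _ h1)
    rw [two_zsmul, gcDeg_sub, gcDeg_add, d2, gcDeg_zero'] at this
    exact gcDeg_ne_zero hW (by omega)
  have t1 := two X nX
  have t2 := two Y nY
  have t3 := two Z nZ
  have c := fun {X Y Z} => e8_core' ht hconj h22 h33 h13 h23 o2 o3 d1 d2 d3 hval hJ hX
    (X := X) (Y := Y) (Z := Z)
  by_cases k1 : ip D₂ Z = 0
  · exact c nX nY nZ xy xz yz x1 y1 z1 e1 (by omega) (by omega) k1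
  by_cases k2 : ip D₂ Y = 0
  · exact c nX nZ nY xz xy (by rw [ip_comm, yz]) x1 z1 y1 (by rw [e1]; abel) (by omega) (by omega)
      k2
  · exact c nY nZ nX yz (by rw [ip_comm, xy]) (by rw [ip_comm, xz]) y1 z1 x1 (by rw [e1]; abel)
      (by omega) (by omega) (by omega)

end global

theorem not_two_dvd_orderOf_of_ker [Finite G] {A : Type*} [Group A] (π : G →* A)
    (hker : ¬ 2 ∣ Nat.card π.ker) {x : G} (h : ¬ 2 ∣ orderOf (π x)) : ¬ 2 ∣ orderOf x := by
  intro h2
  have h3 : x ^ orderOf (π x) ∈ π.ker := by rw [MonoidHom.mem_ker, map_pow, pow_orderOf_eq_one]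
  have h4 : x ^ (orderOf (π x) * Nat.card π.ker) = 1 := by
    rw [pow_mul]; exact orderOf_dvd_iff_pow_eq_one.1 (π.ker.orderOf_dvd_natCard h3)
  exact (Nat.prime_two.dvd_mul.1 (h2.trans (orderOf_dvd_of_pow_eq_one h4))).elim h hker

theorem e8_false [Finite G] [IsSimpleGroup G] (hG : commutator G = ⊤) {t : G} (ht : orderOf t = 2)
    (hconj : ∀ x : G, orderOf x = 2 → IsConj t x) (S : Subgroup G) (hS : Nat.card S = 8)
    (hsq : ∀ x ∈ S, x * x = 1) {A : Type*} [Group A] (π : centralizer ({t} : Set G) →* A)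
    (hπ : Function.Surjective π) (hker : ¬ 2 ∣ Nat.card π.ker) (hA : Nat.card A = 24)
    (T : Subgroup A) [T.Normal] (hT : Nat.card T = 8) (hsq' : ∀ x ∈ T, x * x = 1)
    (tT : π (selfC t) ∈ T) (hfix : ∀ x ∉ T, ∀ s ∈ T, x * s = s * x → s = 1 ∨ s = π (selfC t)) :
    False := by
  classical
  have := Fintype.ofFinite G
  have : Finite A := Finite.of_surjective π hπ
  have := Fintype.ofFinite A
  have t2 : t ^ 2 = 1 := ht ▸ pow_orderOf_eq_one t
  have t2' : selfC t ^ 2 = 1 := Subtype.ext t2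
  have t2'' : π (selfC t) ^ 2 = 1 := by rw [← map_pow, t2', map_one]
  have hc : ∀ g, g * π (selfC t) = π (selfC t) * g := fun g => by
    obtain ⟨g, rfl⟩ := hπ g
    rw [← map_mul, selfC_central, map_mul]
  have t1 : π (selfC t) ≠ 1 := fun e => hker (by
    have := π.ker.orderOf_dvd_natCard (x := selfC t) e
    rwa [← orderOf_coe, coe_selfC, ht] at this)
  obtain ⟨Θ, g1, g2, g3, g4, g5, g6, g7⟩ := a24_data hA T hT hsq' tT t1 hc hfix
  have k2 : ∀ i a, ¬ PRel 2 (selfC t) a → (Θ i ∘ π) a = 0 := by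
    intro i a ha
    refine g2 i _ (fun h => ha ?_)
    rw [pRel_central_iff hc t2'', ← map_mul] at h
    exact (pRel_central_iff (selfC_central t) t2' a).2 (not_two_dvd_orderOf_of_ker π hker h)
  have k1 : ∀ i, IsClassFunction _ (Θ i ∘ π) := fun i => ((g1 i).comp π).isClassFunction
  let D : Fin 3 → genChars G := fun i => ⟨indFun _ (Θ i ∘ π), ((g1 i).comp π).ind⟩
  have hD : ∀ i j, ip (D i) (D j) = if i = j then 4 else 2 := by
    intro i j
    rw [ip_eq_iff]
    refine (classInner_indFun_indFun _ _ _ (fun a ha => indFun_sect t2 (k1 j) (k2 j) ?_)).trans ?_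
    · by_contra h; exact ha (k2 i a h)
    · rw [classInner_comp_surjective π hπ, g4]; split_ifs <;> simp
  have hD1 : ∀ i, ip (D i) (gcOne G) = if i = 0 then 1 else 0 := by
    intro i
    rw [ip_eq_iff]
    refine (classInner_indFun_left _ _ isClassFunction_one).trans ?_
    refine (classInner_comp_surjective π hπ (Θ i) 1).trans ?_
    rw [g5]; split_ifs <;> simp
  have hd : ∀ i, gcDeg (D i) = 0 := by
    intro i
    have h1 := gcDeg_spec (D i)
    rw [show (D i : G → ℂ) 1 = 0 from indFun_sect_zero (k2 i) (fun h => by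
      simpa [ht] using pRel_one_iff'.1 h)] at h1
    exact_mod_cast h1.symm
  have hcard : Nat.card (centralizer ({t} : Set G)) = 24 * Nat.card π.ker := by
    rw [← π.ker.index_mul_card, index_ker, MonoidHom.range_eq_top.2 hπ, card_top, hA]
  refine e8_global ht hconj (D₁ := D 0) (D₂ := D 1) (D₃ := D 2) (hD 1 1) (hD 2 2) (hD 2 0) (hD 2 1)
    (hD1 1) (hD1 2) (hd 0) (hd 1) (hd 2) (fun X nX hX => ?_) ?_ (fun X nX h1 v hv => ?_) (hD 0 0)
    (hD 1 0) (hD1 0)
  · have h1 : ∀ w ∈ π.ker, (X : G → ℂ) (t * w) = (X : G → ℂ) t := by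
      obtain ⟨χ, hχ, e⟩ := exists_irr_of_ip_eq_one nX
      have h0 : InB0 2 χ := by
        obtain ⟨i, hi⟩ : ∃ i, ip (D i) X ≠ 0 := hX.elim (fun h => ⟨_, h⟩) (fun h => ⟨_, h⟩)
        refine inB0_of_ip_ne_zero (D := D i) (pb0_indFun_sect t2 (k1 i) (k2 i)
          (pb0_comp π hπ (g1 i).isClassFunction (g3 i))) hχ (fun h => hi ?_)
        rw [ip_eq_iff]
        rcases e with e | e <;> simp [e, classInner_neg_right, h]
      intro w hw
      have := h0.apply_mul_of_mem_normal hχ (k := 1) (by simpa using t2) π.ker hker ⟨w, hw, rfl⟩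
      rcases e with e | e <;> simpa [e] using this
    have h2 : ((ip (D 0) X + ip (D 1) X + ip (D 2) X : ℤ) : ℂ) = conj ((X : G → ℂ) t) := by
      push_cast
      simp only [ip_spec, D, classInner_indFun_left _ _ (gc_class X), ← classInner_add_left]
      rw [classInner, Finset.sum_congr rfl (g := fun a => if selfC t * a ∈ π.ker then
        24 * conj ((X : G → ℂ) t) else 0) (fun a _ => ?_), ← Finset.sum_filter, Finset.sum_const,
        show (Finset.univ.filter (fun a => selfC t * a ∈ π.ker)).card = Nat.card π.ker from ?_,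
        hcard]
      · have := natCard_complex_ne_zero π.ker
        simp only [nsmul_eq_mul]; push_cast; field_simp
      · rw [Nat.card_eq_fintype_card, Fintype.card_subtype]
        exact Finset.card_equiv (Equiv.mulLeft (selfC t)) (by simp)
      · have e1 : selfC t * a ∈ π.ker ↔ π a = π (selfC t) := by
          rw [MonoidHom.mem_ker, map_mul, mul_eq_one_iff_eq_inv',
            inv_eq_of_mul_eq_one_left (hsq' _ tT)]
        simp only [Pi.add_apply, Function.comp, g7, ← e1]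
        split_ifs with h
        · rw [← h1 _ h, coe_mul, coe_selfC, ← mul_assoc, ← sq, t2, one_mul]
        · simp
    rw [← map_intCast (starRingEnd ℂ), h2, Complex.conj_conj]
  · simp only [mul_comm (invPairs _ : ℂ), D, sum_indFun_mul _ _ isClassFunction_invPairs]
    congr 1
    refine Finset.sum_congr rfl (fun a _ => ?_)
    by_cases h1 : π a ∈ T
    · simp only [Function.comp, g6 0 1 _ h1]
    by_cases h2 : PRel 2 (selfC t) a
    swap
    · rw [k2 0 a h2, k2 1 a h2]
    suffices h : invPairs (a : G) = 0 by simp [h]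
    rw [invPairs, Finset.card_eq_zero, Finset.filter_eq_empty_iff]
    rintro u - ⟨h3, h4⟩
    obtain ⟨m, -, hm⟩ := pow_eq_of_pRel_central (selfC_central t) t2' h2
    have h5 : u * a * u⁻¹ = (a : G)⁻¹ := by
      rw [inv_eq_of_orderOf_two h3, eq_inv_iff_mul_eq_one, mul_assoc, mul_self_of_orderOf_two h4]
    have h6 : u ∈ centralizer ({t} : Set G) := by
      rw [mem_centralizer_singleton_iff, ← mul_inv_eq_iff_eq_mul]
      have e : (a : G) ^ m = t := congrArg Subtype.val hm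
      rw [← e, ← conj_pow, h5, inv_pow, e, inv_eq_of_orderOf_two ht]
    have hi : T.index = 3 := by
      have := T.index_mul_card
      rw [hT, hA] at this; omega
    have key : ∀ y : A, y * y = 1 → y ∈ T := fun y hy => by
      have := T.pow_index_mem y
      rwa [hi, pow_succ, sq, hy, one_mul] at this
    have h7 := key (π ⟨u, h6⟩) (by
      rw [← map_mul, ← π.map_one]; congr 1; exact Subtype.ext (mul_self_of_orderOf_two h3))
    have h8 := key (π (⟨u, h6⟩ * a)) (by
      rw [← map_mul, ← π.map_one]; congr 1; exact Subtype.ext (mul_self_of_orderOf_two h4))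
    rw [map_mul, T.mul_mem_cancel_left h7] at h8
    exact h1 h8
  · refine ⟨abs_lt_of_ip_one hG nX h1 (ne_one_of_orderOf_two ht) hv, ?_⟩
    obtain ⟨n, h2, h3⟩ := exists_avg_of_ip_one nX S
    rw [← Finset.add_sum_erase _ _ (Finset.mem_univ 1), Finset.sum_congr rfl (g := fun _ => (v : ℂ))
      (fun a ha => by
        rw [← hv, (gc_class X).eq_of_isConj (hconj a (orderOf_two_of_mul_self
          (fun e => Finset.ne_of_mem_erase ha (Subtype.ext e)) (hsq _ a.2)))]),
      Finset.sum_const, Finset.card_erase_of_mem (Finset.mem_univ _), Finset.card_univ,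
      ← Nat.card_eq_fintype_card, hS, OneMemClass.coe_one, gcDeg_spec] at h2
    have h4 : gcDeg X + 7 * v = 8 * n := by
      simp only [nsmul_eq_mul] at h2
      exact_mod_cast h2
    rw [h4]
    exact ⟨dvd_mul_right _ _, by rw [mul_assoc]; positivity⟩

end Cfsg.Lib.BSW
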