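import Cfsg.Agent.Lib.BSW.S6
import Cfsg.Agent.Lib.Steiner.Chapman

/-!
Groups with a `2`-central involution whose centralizer is `Z₂ × S₄`.
-/

open Subgroup Equiv

namespace Cfsg.Lib.BSW

variable {G : Type*} [Group G]

theorem isD8_of_hom {H : Type*} [Group H] (f : H →* G) (hf : Function.Injective f) (k s : H)
    (h1 : orderOf (f k) = 4) (h2 : f s * f s = 1) (h3 : f s * f k * (f s)⁻¹ = (f k)⁻¹)
    (h4 : f s ∉ zpowers (f k)) (h5 : ∀ g, f g ∈ zpowers (f k) ∨ f g * f s ∈ zpowers (f k)) :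
    IsD8 H := by
  have key : ∀ g, g ∈ zpowers k ↔ f g ∈ zpowers (f k) := fun g => by
    rw [← MonoidHom.map_zpowers, mem_map_iff_mem hf]
  refine ⟨k, s, by rw [← orderOf_injective f hf, h1], hf (by simpa using h2),
    hf (by simpa using h3), by rwa [key], fun g => ?_⟩
  rw [key, key, map_mul]
  exact h5 g

theorem IsD8.card {H : Type*} [Group H] (h : IsD8 H) : Nat.card H = 8 := by
  obtain ⟨k, s, h1, -, -, h4, h5⟩ := h
  have hi : (zpowers k).index = 2 := by
    rw [index_eq_two_iff]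
    refine ⟨s, fun b => ?_⟩
    have key : b * s ∈ zpowers k → b ∉ zpowers k := fun hg hk =>
      h4 (by simpa using mul_mem (inv_mem hk) hg)
    rcases h5 b with hb | hb
    · exact Or.inr ⟨hb, fun hb' => key hb' hb⟩
    · exact Or.inl ⟨hb, key hb⟩
  rw [← (zpowers k).index_mul_card, hi, Nat.card_zpowers, h1]

/-- the group `Z₂ × S₄` -/
abbrev X48 : Type := Multiplicative (ZMod 2) × Perm (Fin 4)

namespace X48

def c : X48 := (Multiplicative.ofAdd 1, 1)
def z : X48 := (1, swap 0 1 * swap 2 3)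
def a : X48 := (1, swap 0 2 * swap 1 3)
def b : X48 := (1, swap 0 1)
def k : X48 := a * b
def x : X48 := (1, swap 0 1 * swap 1 2)

theorem card : Nat.card X48 = 48 := by
  rw [Nat.card_prod, Nat.card_perm]; simp [Nat.factorial]

theorem card_cent : Nat.card (centralizer ({z} : Set X48)) = 16 := by
  rw [Nat.card_congr (Equiv.subtypeEquivRight (q := fun y => y * z = z * y)
    (fun y => mem_centralizer_singleton_iff)), Nat.card_eq_fintype_card]
  decide +kernel

theorem comm : ∀ u v : X48, u * z = z * u → v * z = z * v →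
    u * v * u⁻¹ * v⁻¹ = 1 ∨ u * v * u⁻¹ * v⁻¹ = z := by decide +kernel

theorem central : ∀ u : X48, (∀ v, v * u = u * v) → u = 1 ∨ u = c := by decide +kernel

theorem inv_one : ∀ u : X48, u * z = z * u → u.1 = 1 → u * u = 1 → u ≠ 1 →
    ∃ v, v * u * v⁻¹ = z ∨ v * u * v⁻¹ = b := by decide +kernel

theorem gen0 : ∀ u : X48, ∃ v w v' w' : Fin 3, ∃ y ∈ [1, c, b, c * b],
    u = x ^ (v : ℕ) * (z * x) ^ (w : ℕ) * x ^ (v' : ℕ) * (z * x) ^ (w' : ℕ) * y := by
  decide +kernel

theorem gen (u : X48) : ∃ v w v' w' : Fin 3, ∃ y ∈ [1, c, b, c * b],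
    u = x ^ (v : ℕ) * (z * x) ^ (w : ℕ) * x ^ (v' : ℕ) * (z * x) ^ (w' : ℕ) * y ∧
      (y = 1 ↔ (u.1 = 1 ∧ Perm.sign u.2 = 1)) ∧ (u.1 = 1 ↔ (y = 1 ∨ y = b)) := by
  obtain ⟨v, w, v', w', y, hy, e⟩ := gen0 u
  have h1 : u.1 = y.1 := by simp [e, x, z]
  have h2 : Perm.sign u.2 = Perm.sign y.2 := by simp [e, x, z]
  refine ⟨v, w, v', w', y, hy, e, ?_⟩
  rw [h1, h2]
  simp only [List.mem_cons, List.not_mem_nil, or_false] at hy
  rcases hy with rfl | rfl | rfl | rfl <;> decide

theorem xor_c (u : X48) : Xor ((u * c).1 = 1) (u.1 = 1) := by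
  unfold Xor; revert u; decide +kernel

theorem normal : ∀ u : X48, u ≠ 1 → u = c ∨ ∃ v w : X48,
    (u * (v * u⁻¹ * v⁻¹)) * (w * (u * (v * u⁻¹ * v⁻¹))⁻¹ * w⁻¹) = z := by decide +kernel

theorem cls : ∀ u : X48, u * u = 1 → u.1 ≠ 1 →
    u = c ∨ ∃ v, v * u * v⁻¹ = c * z ∨ v * u * v⁻¹ = c * b := by decide +kernel

theorem d8 : ∀ u : X48, u * z = z * u → u.1 = 1 → ∃ i : Fin 4, u = k ^ (i : ℕ) ∨
    u * b = k ^ (i : ℕ) := by decide +kernel

theorem klein : ∀ u : X48, u * z = z * u → u.1 = 1 → Perm.sign u.2 = 1 →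
    (u = 1 ∨ u = z) ∨ (u * a = 1 ∨ u * a = z) := by decide +kernel

/-- the automorphism twisting by the sign -/
def twist : X48 →* X48 where
  toFun u := if Perm.sign u.2 = 1 then u else c * u
  map_one' := by decide
  map_mul' := by decide +kernel

theorem twist_twist : ∀ u, twist (twist u) = u := by decide +kernel

end X48

open X48

/-- the hypotheses on the embedding of `Z₂ × S₄` -/
structure X48Hyp (φ : X48 →* G) : Prop where
  inj : Function.Injective φ
  ct : ∀ g, g * φ c = φ c * g → g ∈ φ.range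
  cz : ∀ g, g * φ z = φ z * g → g ∈ φ.range
  syl : ¬ 32 ∣ Nat.card G

namespace X48Hyp

variable {φ : X48 →* G} (h : X48Hyp φ)
include h

theorem twist : X48Hyp (φ.comp twist) := by
  have hs : Function.Surjective X48.twist := fun u => ⟨_, twist_twist u⟩
  have hr : (φ.comp X48.twist).range = φ.range := by
    rw [MonoidHom.range_comp, MonoidHom.range_eq_top.2 hs, ← MonoidHom.range_eq_map]
  refine ⟨h.inj.comp (Function.LeftInverse.injective twist_twist), ?_, ?_, h.syl⟩
  · rw [hr]; exact h.ct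
  · rw [hr]; exact h.cz

theorem cent_c : centralizer ({φ c} : Set G) = φ.range := by
  ext g
  rw [mem_centralizer_singleton_iff]
  refine ⟨h.ct g, ?_⟩
  rintro ⟨u, rfl⟩
  rw [← map_mul, ← map_mul, (show ∀ u : X48, u * c = c * u by decide +kernel) u]

theorem cent_z : centralizer ({φ z} : Set G) = (centralizer ({z} : Set X48)).map φ := by
  ext g
  rw [mem_centralizer_singleton_iff]
  constructor
  · intro hg
    obtain ⟨u, rfl⟩ := h.cz g hg
    exact ⟨u, mem_centralizer_singleton_iff.2 (h.inj (by simpa using hg)), rfl⟩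
  · rintro ⟨u, hu, rfl⟩
    rw [← map_mul, ← map_mul, mem_centralizer_singleton_iff.1 hu]

theorem card_c : Nat.card (centralizer ({φ c} : Set G)) = 48 := by
  rw [h.cent_c, ← X48.card]
  exact (Nat.card_congr (MonoidHom.ofInjective h.inj).toEquiv).symm

theorem card_z : Nat.card (centralizer ({φ z} : Set G)) = 16 := by
  rw [h.cent_z, card_map_of_injective h.inj, card_cent]

variable [Finite G]

theorem exists_sylow : ∃ S : Sylow 2 G, (S : Subgroup G) = centralizer ({φ z} : Set G) := by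
  have h1 : IsPGroup 2 (centralizer ({φ z} : Set G)) := IsPGroup.of_card (n := 4) h.card_z
  obtain ⟨S, hS⟩ := h1.exists_le_sylow
  refine ⟨S, (eq_of_le_of_card_ge hS ?_).symm⟩
  obtain ⟨n, hn⟩ := IsPGroup.iff_card.1 S.isPGroup'
  rw [h.card_z, hn, show 16 = 2 ^ 4 from rfl]
  refine Nat.pow_le_pow_right two_pos ?_
  by_contra hc
  exact h.syl ((pow_dvd_pow 2 (show 5 ≤ n by omega)).trans (hn ▸ card_subgroup_dvd_card _))

theorem eq_of_isConj {u v : X48} (hu : ∀ w : X48, w * z = z * w → w * u = u * w)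
    (hv : ∀ w : X48, w * z = z * w → w * v = v * w)
    (hc : IsConj (φ u) (φ v)) : u = v := by
  obtain ⟨S, hS⟩ := h.exists_sylow
  have key : ∀ u : X48, (∀ w : X48, w * z = z * w → w * u = u * w) →
      φ u ∈ centralizer ((S : Subgroup G) : Set G) := by
    intro u hu g hg
    rw [hS, h.cent_z] at hg
    obtain ⟨w, hw, rfl⟩ := hg
    rw [← map_mul, ← map_mul, hu w (mem_centralizer_singleton_iff.1 hw)]
  obtain ⟨g, hg⟩ := isConj_iff.1 hc
  obtain ⟨n, hn, e⟩ := S.conj_eq_normalizer_conj_of_mem_centralizer (φ u) g⁻¹ (key u hu)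
    (by rw [inv_inv, hg]; exact key v hv)
  rw [inv_inv, hg] at e
  have hm : ∀ w : X48, w * z = z * w → ∃ w' : X48, w' * z = z * w' ∧ φ w' = n * φ w * n⁻¹ := by
    intro w hw
    have : φ w ∈ (S : Subgroup G) := by
      rw [hS, h.cent_z]; exact ⟨w, mem_centralizer_singleton_iff.2 hw, rfl⟩
    have h2 := (mem_normalizer_iff.1 hn _).1 this
    replace h2 : n * φ w * n⁻¹ ∈ (S : Subgroup G) := h2
    rw [hS, h.cent_z] at h2
    obtain ⟨w', hw', e⟩ := h2
    exact ⟨w', mem_centralizer_singleton_iff.1 hw', e⟩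
  obtain ⟨a', ha', ea⟩ := hm a (by decide)
  obtain ⟨b', hb', eb⟩ := hm b (by decide)
  have h3 : φ (a' * b' * a'⁻¹ * b'⁻¹) = n * φ z * n⁻¹ := by
    rw [show z = a * b * a⁻¹ * b⁻¹ by decide]
    simp only [map_mul, map_inv, ea, eb]; group
  have h4 : n * φ z = φ z * n := by
    rcases comm a' b' ha' hb' with e' | e' <;> rw [e'] at h3
    · rw [map_one, eq_comm, conj_eq_one_iff, map_eq_one_iff _ h.inj] at h3
      exact absurd h3 (by decide)
    · rw [← mul_inv_eq_iff_eq_mul, ← h3]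
  have h5 : n ∈ (S : Subgroup G) := hS ▸ mem_centralizer_singleton_iff.2 h4
  apply h.inj
  rw [e, mul_assoc, ← key u hu n h5, inv_mul_cancel_left]

theorem not_conj_c_z : ¬ IsConj (φ c) (φ z) := fun hc =>
  absurd (h.eq_of_isConj (by decide +kernel) (fun _ e => e) hc) (by decide)

theorem not_conj_c_cz : ¬ IsConj (φ c) (φ (c * z)) := fun hc =>
  absurd (h.eq_of_isConj (by decide +kernel) (by decide +kernel) hc) (by decide)

theorem not_conj_cz_z : ¬ IsConj (φ (c * z)) (φ z) := fun hc =>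
  absurd (h.eq_of_isConj (by decide +kernel) (fun _ e => e) hc) (by decide)

omit h [Finite G] in
theorem isConj_map {u v w : X48} (e : v * u * v⁻¹ = w) : IsConj (φ u) (φ w) :=
  φ.map_isConj (isConj_iff.2 ⟨v, e⟩)

omit h [Finite G] in
theorem exists_mul_res (u : X48) : ∃ r ∈ pResidual 2 G, ∃ y ∈ [1, c, b, c * b],
    φ u = r * φ y ∧ (y = 1 ↔ (u.1 = 1 ∧ Perm.sign u.2 = 1)) ∧ (u.1 = 1 ↔ (y = 1 ∨ y = b)) := by
  obtain ⟨v, w, v', w', y, hy, e, h1⟩ := gen u
  have k1 : ∀ u : X48, u ^ 3 = 1 → φ u ∈ pResidual 2 G := fun u hu =>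
    mem_pResidual_of_coprime (Nat.Coprime.coprime_dvd_left (orderOf_dvd_of_pow_eq_one
      (n := 3) (by rw [← map_pow, hu, map_one])) (by norm_num))
  have k2 := k1 x (by decide)
  have k3 := k1 (z * x) (by decide)
  refine ⟨_, mul_mem (mul_mem (mul_mem (pow_mem k2 v) (pow_mem k3 w)) (pow_mem k2 v'))
    (pow_mem k3 w'), y, hy, ?_, h1⟩
  conv_lhs => rw [e]
  simp only [map_mul, map_pow]

omit h [Finite G] in
theorem mem_res {u : X48} (h1 : u.1 = 1) (h2 : Perm.sign u.2 = 1) : φ u ∈ pResidual 2 G := by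
  obtain ⟨r, hr, y, -, e, h3, -⟩ := exists_mul_res (φ := φ) u
  rwa [e, h3.2 ⟨h1, h2⟩, map_one, mul_one]

theorem c_not_mem : φ c ∉ pResidual 2 G := by
  intro hc
  obtain ⟨S, hS⟩ := h.exists_sylow
  let M : Subgroup G := (MonoidHom.fst _ _ : X48 →* _).ker.map φ
  have hM : ∀ u, φ u ∈ M ↔ u.1 = 1 := fun u => mem_map_iff_mem h.inj
  have h2 : M.relIndex S = 2 := by
    rw [relIndex, index_eq_two_iff]
    refine ⟨⟨φ c, by rw [hS, h.cent_z]; exact ⟨c, mem_centralizer_singleton_iff.2 (by decide),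
      rfl⟩⟩, fun g => ?_⟩
    obtain ⟨g, hg⟩ := g
    obtain ⟨u, -, rfl⟩ : g ∈ (centralizer ({z} : Set X48)).map φ := by rwa [← h.cent_z, ← hS]
    simp only [mem_subgroupOf, coe_mul, ← map_mul, hM]
    exact xor_c u
  have key : ∀ u : X48, u * u = 1 → u ≠ 1 → φ u ∈ pResidual 2 G →
      IsConj (φ u) (φ z) ∨ IsConj (φ u) (φ b) := by
    intro u hu hu1 hr
    obtain ⟨g, hg⟩ := thompson_transfer S (M := M ⊓ S) (by rwa [inf_relIndex_right]) (t := φ u)
      (by rw [← map_pow, pow_two, hu, map_one]) hr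
    obtain ⟨⟨v, hv, e⟩, hg2⟩ := hg
    replace hg2 : g * φ u * g⁻¹ ∈ (S : Subgroup G) := hg2
    rw [← e, hS, mem_centralizer_singleton_iff, ← map_mul, ← map_mul] at hg2
    have hc : IsConj (φ u) (φ v) := isConj_iff.2 ⟨g, e.symm⟩
    obtain ⟨w, hw | hw⟩ := inv_one v (h.inj hg2) hv
      (h.inj (by rw [map_mul, e, map_one, conj_mul, ← map_mul, hu]; simp))
      (by rintro rfl; rw [map_one, isConj_one_left, map_eq_one_iff _ h.inj] at hc; exact hu1 hc)
    · exact Or.inl (hc.trans (isConj_map hw))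
    · exact Or.inr (hc.trans (isConj_map hw))
  have k1 := (key c (by decide) (by decide) hc).resolve_left h.not_conj_c_z
  have k2 := (key (c * z) (by decide) (by decide) (by
    rw [map_mul]; exact mul_mem hc (mem_res rfl (by decide)))).resolve_left h.not_conj_cz_z
  exact h.not_conj_c_cz (k1.trans k2.symm)

theorem exists_mul (g : G) : ∃ r ∈ pResidual 2 G, ∃ y ∈ [1, c, b, c * b], g = r * φ y := by
  obtain ⟨S, hS⟩ := h.exists_sylow
  have : g ∈ pResidual 2 G ⊔ S := by rw [pResidual_sup_sylow]; trivial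
  obtain ⟨r, hr, s, hs, rfl⟩ := mem_sup_of_normal_left.1 this
  rw [hS, h.cent_z] at hs
  obtain ⟨u, -, rfl⟩ := hs
  obtain ⟨r', hr', y, hy, e, -⟩ := exists_mul_res (φ := φ) u
  exact ⟨r * r', mul_mem hr hr', y, hy, by rw [e, mul_assoc]⟩

theorem case_b (hb : φ b ∈ pResidual 2 G) : Nonempty (G ≃* Perm (Fin 6)) := by
  classical
  set G₀ := pResidual 2 G with hG₀
  have hc := h.c_not_mem
  have hmem : ∀ u, φ u ∈ G₀ ↔ u.1 = 1 := by
    intro u
    obtain ⟨r, hr, y, hy, e, -, h1⟩ := exists_mul_res (φ := φ) u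
    rw [e, G₀.mul_mem_cancel_left hr, h1]
    simp only [List.mem_cons, List.not_mem_nil, or_false] at hy
    rcases hy with rfl | rfl | rfl | rfl
    · simp
    · exact iff_of_false hc (by decide)
    · simp [hb]
    · rw [map_mul, G₀.mul_mem_cancel_right hb]; exact iff_of_false hc (by decide)
  have hi : G₀.index = 2 := by
    rw [index_eq_two_iff]
    refine ⟨φ c, fun g => ?_⟩
    obtain ⟨r, hr, y, -, rfl⟩ := h.exists_mul g
    rw [mul_assoc, G₀.mul_mem_cancel_left hr, G₀.mul_mem_cancel_left hr, ← map_mul, hmem, hmem]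
    exact xor_c y
  have hz : φ z ∈ G₀ := (hmem z).2 rfl
  have hcz : ∀ u (hu : φ u ∈ G₀), u * z = z * u →
      (⟨φ u, hu⟩ : G₀) ∈ centralizer ({⟨φ z, hz⟩} : Set G₀) := fun u hu e =>
    mem_centralizer_singleton_iff.2 (Subtype.ext (by simp [← map_mul, e]))
  have o4 : orderOf (φ k) = 4 := by
    rw [orderOf_injective φ h.inj]
    exact orderOf_eq_prime_pow (p := 2) (n := 1) (by decide) (by decide)
  have hD : IsD8 (centralizer ({⟨φ z, hz⟩} : Set G₀)) := by
    refine isD8_of_hom (G₀.subtype.comp (Subgroup.subtype _))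
      ((subtype_injective _).comp (subtype_injective _))
      ⟨_, hcz k ((hmem k).2 rfl) (by decide)⟩ ⟨_, hcz b hb (by decide)⟩ o4
      (show φ b * φ b = 1 by rw [← map_mul, show b * b = 1 by decide, map_one])
      (show φ b * φ k * (φ b)⁻¹ = (φ k)⁻¹ by
        rw [← map_inv, ← map_inv, ← map_mul, ← map_mul, show b * k * b⁻¹ = k⁻¹ by decide])
      (show φ b ∉ zpowers (φ k) from ?_) (fun g => ?_)
    · rw [← MonoidHom.map_zpowers, mem_map_iff_mem h.inj, mem_zpowers_iff_mem_range_orderOf,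
        ← orderOf_injective φ h.inj, o4]
      decide
    · obtain ⟨⟨g, hg⟩, hg'⟩ := g
      have e : g * φ z = φ z * g := congrArg Subtype.val (mem_centralizer_singleton_iff.1 hg')
      obtain ⟨u, rfl⟩ := h.cz g e
      obtain ⟨i, hi | hi⟩ := d8 u (h.inj (by simpa using e)) ((hmem u).1 hg)
      · exact Or.inl (show φ u ∈ zpowers (φ k) from ⟨(i : ℕ), by simp [hi]⟩)
      · exact Or.inr (show φ u * φ b ∈ zpowers (φ k) from ⟨(i : ℕ), by simp [← map_mul, hi]⟩)
  have hcard := G₀.index_mul_card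
  rw [hi] at hcard
  rcases a6_or_psl27 (pResidual_two_eq_top_iff.1 pResidual_pResidual) (t := ⟨φ z, hz⟩)
    (by rw [← orderOf_coe, orderOf_injective φ h.inj]
        exact orderOf_eq_prime (by decide) (by decide)) hD (by
      have h1 := (centralizer ({⟨φ z, hz⟩} : Set G₀)).index_mul_card
      rw [hD.card] at h1
      rw [← Nat.not_even_iff_odd]
      rintro ⟨m, hm⟩
      exact h.syl ⟨m, by omega⟩) with ⟨⟨ι⟩⟩ | ⟨h168, -⟩
  · refine nonempty_s6 hi ι hc (by rw [← map_mul, ← φ.map_one]; congr 1) ((hmem x).2 rfl)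
      (by rw [← map_pow, show x ^ 3 = 1 by decide, map_one]) (by rw [Ne, map_eq_one_iff _ h.inj]; decide)
      (by rw [← map_mul, ← map_mul]; congr 1) (fun g hg => ?_)
    obtain ⟨u, rfl⟩ := h.ct g (hg _).symm
    rcases central u (fun v => h.inj (by simpa using hg (φ v))) with rfl | rfl
    · simp
    · have h1 := h.card_c
      rw [show centralizer ({φ c} : Set G) = ⊤ from
        eq_top_iff.2 (fun g _ => mem_centralizer_singleton_iff.2 (hg g)), card_top] at h1
      rw [Nat.card_congr ι.toEquiv, card_a6] at hcard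
      omega
  · exfalso
    have h7 : {g | IsConj (φ c) g}.ncard = 7 := by
      have := sm_card_isConj_mul (φ c)
      rw [h.card_c] at this
      change Nat.card {g | IsConj (φ c) g} = 7
      change Nat.card {g | IsConj (φ c) g} * 48 = _ at this
      change Nat.card G₀ = _ at h168
      omega
    have hn : G₀.Normal := inferInstance
    by_cases hcb : IsConj (φ c) (φ (c * b))
    · let L : Finset X48 := Finset.univ.filter (fun u => u = c ∨ ∃ v, v * u * v⁻¹ = c * b)
      have hL : (L.image φ : Set G) = {g | IsConj (φ c) g} := by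
        apply Set.eq_of_subset_of_ncard_le (ht := Set.toFinite _)
        · intro g hg
          simp only [Finset.coe_image, Set.mem_image, Finset.mem_coe, L, Finset.mem_filter] at hg
          obtain ⟨u, ⟨-, rfl | ⟨v, hv⟩⟩, rfl⟩ := hg
          · exact IsConj.refl _
          · exact hcb.trans (isConj_map hv).symm
        · rw [h7, Set.ncard_coe_finset, Finset.card_image_of_injective _ h.inj]
          exact le_of_eq (by decide +kernel)
      obtain ⟨g, hg⟩ := isConj_iff.1 hcb
      have h3 : IsConj (φ c) (g⁻¹ * φ (x * (c * b) * x⁻¹) * g) :=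
        (hcb.trans (isConj_map (v := x) rfl)).trans (isConj_iff.2 ⟨g⁻¹, by rw [inv_inv]⟩)
      have h4 : g⁻¹ * φ (x * (c * b) * x⁻¹) * g ∈ centralizer ({φ c} : Set G) := by
        rw [h.cent_c]
        have : g⁻¹ * φ (x * (c * b) * x⁻¹) * g ∈ (L.image φ : Set G) := by rw [hL]; exact h3
        simp only [Finset.coe_image, Set.mem_image] at this
        obtain ⟨u, -, e⟩ := this
        exact ⟨u, e⟩
      rw [mem_centralizer_singleton_iff] at h4
      have h5 : φ (x * (c * b) * x⁻¹) * φ (c * b) = φ (c * b) * φ (x * (c * b) * x⁻¹) := by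
        rw [← hg]
        calc _ = g * (g⁻¹ * φ (x * (c * b) * x⁻¹) * g * φ c) * g⁻¹ := by group
          _ = _ := by rw [h4]; group
      rw [← map_mul, ← map_mul] at h5
      exact absurd (h.inj h5) (by decide)
    · have := Steiner.card_dvd_ncard_of_free (G := ConjAct G)
        ((zpowers (φ k)).map ConjAct.toConjAct.toMonoidHom) ({g | IsConj (φ c) g} \ {φ c}) ?_ ?_
      · rw [card_map_of_injective ConjAct.toConjAct.injective, Nat.card_zpowers, o4,
          Set.ncard_sdiff_singleton_of_mem (s := {g | IsConj (φ c) g}) (IsConj.refl _), h7] at this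
        omega
      · rintro _ ⟨y, hy, rfl⟩ g ⟨hg1, hg2⟩
        have hy' : y ∈ centralizer ({φ c} : Set G) := by
          rw [h.cent_c]; exact zpowers_le.2 (show φ k ∈ φ.range from ⟨k, rfl⟩) hy
        refine ⟨hg1.trans (isConj_iff.2 ⟨y, rfl⟩), fun e => hg2 ?_⟩
        have e' : y * g * y⁻¹ = φ c := e
        rw [mul_inv_eq_iff_eq_mul, ← mem_centralizer_singleton_iff.1 hy'] at e'
        exact mul_left_cancel e'
      · rintro _ ⟨y, hy, rfl⟩ g ⟨hg1, hg2⟩ e
        have e' : y * g * y⁻¹ = g := e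
        by_contra hy1
        rw [SetLike.mem_coe, mem_zpowers_iff_mem_range_orderOf, o4] at hy
        simp only [Finset.mem_image, Finset.mem_range] at hy
        obtain ⟨i, hi, rfl⟩ := hy
        have hc1 : Commute (φ k ^ i) g := mul_inv_eq_iff_eq_mul.1 e'
        have hc2 : Commute (φ z) g := by
          interval_cases i
          · simp at hy1
          · simpa [← map_pow, show k ^ 2 = z by decide] using hc1.pow_left 2
          · simpa [← map_pow, show k ^ 2 = z by decide] using hc1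
          · simpa [← map_pow, show (k ^ 3) ^ 2 = z by decide] using hc1.pow_left 2
        obtain ⟨u, rfl⟩ := h.cz g hc2.symm.eq
        obtain ⟨w, hw⟩ := isConj_iff.1 hg1
        rcases cls u (h.inj (by rw [map_mul, ← hw, conj_mul, ← map_mul, show c * c = 1 by decide]
                                simp))
          (fun e => hc (by
            have := hn.conj_mem _ ((hmem u).2 e) w⁻¹
            rwa [← hw, show w⁻¹ * (w * φ c * w⁻¹) * w⁻¹⁻¹ = φ c by group] at this)) with
          rfl | ⟨v, hv | hv⟩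
        · exact hg2 rfl
        · exact h.not_conj_c_cz (hg1.trans (isConj_map hv))
        · exact hcb (hg1.trans (isConj_map hv))

theorem case_klein (hb : φ b ∉ pResidual 2 G) (hcb : φ (c * b) ∉ pResidual 2 G) :
    centralizer ({φ c} : Set G) = ⊤ := by
  set G₀ := pResidual 2 G with hG₀
  have hn : G₀.Normal := inferInstance
  have hc := h.c_not_mem
  have hmem : ∀ u, φ u ∈ G₀ ↔ u.1 = 1 ∧ Perm.sign u.2 = 1 := by
    intro u
    obtain ⟨r, hr, y, hy, e, h1, -⟩ := exists_mul_res (φ := φ) u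
    rw [e, G₀.mul_mem_cancel_left hr, ← h1]
    simp only [List.mem_cons, List.not_mem_nil, or_false] at hy
    rcases hy with rfl | rfl | rfl | rfl
    · simp
    · exact iff_of_false hc (by decide)
    · exact iff_of_false hb (by decide)
    · exact iff_of_false hcb (by decide)
  have h12 : Nat.card (G₀.comap φ) = 12 := by
    rw [Nat.card_congr (Equiv.subtypeEquivRight (p := fun y => y ∈ G₀.comap φ)
      (fun y => hmem y)), Nat.card_eq_fintype_card]
    decide +kernel
  have hi : G₀.index = 4 := by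
    have h1 : G₀ ⊔ φ.range = ⊤ := by
      rw [eq_top_iff]
      intro g _
      obtain ⟨r, hr, y, -, rfl⟩ := h.exists_mul g
      exact mul_mem_sup hr ⟨y, rfl⟩
    rw [← relIndex_top_right, ← h1, relIndex_sup_left, MonoidHom.range_eq_map, ← relIndex_comap,
      relIndex_top_right]
    have h2 := (G₀.comap φ).index_mul_card
    rw [X48.card, h12] at h2
    omega
  have hz : φ z ∈ G₀ := (hmem z).2 (by decide)
  have ha : φ a ∈ G₀ := (hmem a).2 (by decide)
  have o2 : orderOf (⟨φ z, hz⟩ : G₀) = 2 := by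
    rw [← orderOf_coe, orderOf_injective φ h.inj]
    exact orderOf_eq_prime (by decide) (by decide)
  have hK : ∀ y : G₀, y ∈ zpowers (⟨φ z, hz⟩ : G₀) ↔ (y : G) = 1 ∨ (y : G) = φ z := fun y => by
    rw [h9_mem_zpowers_two (mul_self_of_orderOf_two o2), Subtype.ext_iff, Subtype.ext_iff]
    rfl
  have hcent : ∀ g : G₀, g * ⟨φ z, hz⟩ = ⟨φ z, hz⟩ * g →
      g ∈ zpowers (⟨φ z, hz⟩ : G₀) ∨ g * ⟨φ a, ha⟩ ∈ zpowers (⟨φ z, hz⟩ : G₀) := by
    rintro ⟨g, hg⟩ e
    have e' : g * φ z = φ z * g := congrArg Subtype.val e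
    obtain ⟨u, rfl⟩ := h.cz g e'
    rw [hK, hK]
    simp only [coe_mul, ← map_mul, map_eq_one_iff _ h.inj, h.inj.eq_iff]
    exact klein u (h.inj (by simpa using e')) ((hmem u).1 hg).1 ((hmem u).1 hg).2
  have haK : (⟨φ a, ha⟩ : G₀) ∉ zpowers (⟨φ z, hz⟩ : G₀) := by
    rw [hK]; simp only [map_eq_one_iff _ h.inj, h.inj.eq_iff]; decide
  have hu : ∀ y ∈ zpowers (⟨φ z, hz⟩ : G₀), y * y = 1 → y = 1 ∨ y = ⟨φ z, hz⟩ := fun y hy _ =>
    ((hK y).1 hy).imp Subtype.ext Subtype.ext
  have hc2 : Nat.card (zpowers (⟨φ z, hz⟩ : G₀)) = 2 := by rw [Nat.card_zpowers, o2]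
  have hcard := G₀.index_mul_card
  rw [hi] at hcard
  have H := hyp_of_no_index_two (pResidual_two_eq_top_iff.1 pResidual_pResidual) o2
    (s := ⟨φ a, ha⟩) (by
      rw [← orderOf_coe, orderOf_injective φ h.inj]
      exact orderOf_eq_prime (by decide) (by decide))
    (fun a ha b hb => setLike_mul_comm ha hb) (mem_zpowers _) haK (fun y hy => by
      rcases hu y hy (by rcases (hK y).1 hy with e | e <;> apply Subtype.ext <;> simp [e, ← map_mul]
                         rw [map_eq_one_iff _ h.inj]; decide) with rfl | rfl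
      · simp
      · apply Subtype.ext
        simp only [coe_mul, coe_inv, ← map_mul, ← map_inv]
        congr 1
        decide) hcent hu (ti_of_two_group (IsPGroup.of_card (n := 1) hc2) hu) (by
      have h1 := (centralizer ({⟨φ z, hz⟩} : Set G₀)).index_mul_card
      have h2 : (centralizer ({⟨φ z, hz⟩} : Set G₀)).map G₀.subtype =
          ((G₀.comap φ) ⊓ centralizer ({z} : Set X48)).map φ := by
        rw [map_inf_eq _ _ _ h.inj, ← h.cent_z, map_comap_eq]
        ext g
        simp only [mem_map, mem_centralizer_singleton_iff, mem_inf, Subtype.ext_iff]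
        exact ⟨fun ⟨y, h1, h2⟩ => h2 ▸ ⟨⟨h.cz _ h1, y.2⟩, h1⟩, fun ⟨h1, h2⟩ => ⟨⟨g, h1.2⟩, h2, rfl⟩⟩
      have h3 := congrArg (fun K : Subgroup G => Nat.card K) h2
      simp only [card_map_of_injective h.inj, card_map_of_injective (subtype_injective _)] at h3
      rw [Nat.card_congr (Equiv.subtypeEquivRight
        (q := fun y : X48 => (y.1 = 1 ∧ Perm.sign y.2 = 1) ∧ y * z = z * y)
        (fun y => by rw [mem_inf, mem_comap, hmem, mem_centralizer_singleton_iff])),
        Nat.card_eq_fintype_card (α := {y : X48 // _}), show Fintype.card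
          {y : X48 // (y.1 = 1 ∧ Perm.sign y.2 = 1) ∧ y * z = z * y} = 4 by decide +kernel] at h3
      rw [h3] at h1
      rw [← Nat.not_even_iff_odd]
      rintro ⟨m, hm⟩
      exact h.syl ⟨m, by omega⟩)
  obtain ⟨Q, D, u, hZ, hQ⟩ := H.exists_zass
  have h3 : 2 * Nat.card G₀ = _ := hZ.card
  rw [hc2] at hQ
  rcases hQ with hQ | hQ
  swap
  · rw [show Nat.card Q = 3 by omega] at h3
    apply eq_top_of_card_eq
    rw [h.card_c]; omega
  exfalso
  rw [hQ] at h3
  have h5 : (centralizer ({φ c} : Set G)).index = 5 := by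
    have := (centralizer ({φ c} : Set G)).index_mul_card
    rw [h.card_c] at this
    omega
  set N := (centralizer ({φ c} : Set G)).normalCore with hN
  have hN1 : N ≠ ⊥ := by
    intro e
    classical
    have := card_dvd_of_injective (MulAction.toPermHom G (G ⧸ centralizer ({φ c} : Set G)))
      (by rw [← MonoidHom.ker_eq_bot_iff, ← normalCore_eq_ker]; exact e)
    rw [Nat.card_perm, ← index_eq_card, h5, show Nat.card G = 240 by omega] at this
    simp [Nat.factorial] at this
  have hNle : ∀ g ∈ N, g ∈ φ.range := fun g hg => h.cent_c ▸ normalCore_le _ hg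
  have hNn : N.Normal := inferInstance
  obtain ⟨g, hg, hg1⟩ := exists_mem_ne_one_of_ne_bot hN1
  obtain ⟨u, rfl⟩ := hNle g hg
  rcases normal u (by rintro rfl; simp at hg1) with rfl | ⟨v, w, e⟩
  · suffices H : centralizer ({φ c} : Set G) = ⊤ by rw [H, index_top] at h5; omega
    refine eq_top_iff.2 (fun y _ => ?_)
    obtain ⟨u, hu⟩ := hNle _ (hNn.conj_mem _ hg y)
    have hg1 : IsConj (φ c) (φ u) := isConj_iff.2 ⟨y, hu.symm⟩
    rw [mem_centralizer_singleton_iff, ← mul_inv_eq_iff_eq_mul, ← hu]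
    have h6 : φ (u * c) ∈ G₀ := by
      obtain ⟨r, hr, y', -, rfl⟩ := h.exists_mul y
      rw [map_mul, hu, show r * φ y' * φ c * (r * φ y')⁻¹ * φ c =
        r * (φ (y' * c * y'⁻¹) * r⁻¹ * (φ (y' * c * y'⁻¹))⁻¹) * φ (y' * c * y'⁻¹ * c) by
          simp only [map_mul, map_inv]; group,
        (show ∀ y' : X48, y' * c * y'⁻¹ * c = 1 by decide +kernel) y', map_one, mul_one]
      exact mul_mem hr (hn.conj_mem _ (inv_mem hr) _)
    rw [hmem] at h6
    rcases (show ∀ u : X48, u * u = 1 → ((u * c).1 = 1 ∧ Perm.sign (u * c).2 = 1) →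
      u = c ∨ ∃ v, v * u * v⁻¹ = c * z by decide +kernel) u
      (h.inj (by rw [map_mul, hu, conj_mul, ← map_mul, show c * c = 1 by decide]; simp)) h6 with
      rfl | ⟨v, hv⟩
    · rfl
    · exact absurd (hg1.trans (isConj_map hv)) h.not_conj_c_cz
  · have h6 : φ z ∈ N := by
      have k1 : φ (u * (v * u⁻¹ * v⁻¹)) ∈ N := by
        simp only [map_mul, map_inv]
        exact mul_mem hg (hNn.conj_mem _ (inv_mem hg) _)
      rw [← e, map_mul, map_mul _ (w * _), map_mul _ w, map_inv, map_inv]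
      exact mul_mem k1 (hNn.conj_mem _ (inv_mem k1) _)
    have h7 := sm_card_isConj_mul (φ z)
    rw [h.card_z] at h7
    have h8 : Nat.card {g : G // IsConj (φ z) g} ≤ Nat.card (G₀.comap φ) := by
      rw [← card_map_of_injective h.inj]
      refine Nat.card_le_card_of_injective (fun g => ⟨g.1, ?_⟩)
        (fun g g' e => Subtype.ext (Subtype.mk.inj e))
      obtain ⟨g, hg⟩ := g
      obtain ⟨y, rfl⟩ := isConj_iff.1 hg
      rw [map_comap_eq]
      exact ⟨hNle _ (hNn.conj_mem _ h6 y), hn.conj_mem _ hz y⟩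
    rw [h12] at h8
    omega

theorem main : centralizer ({φ c} : Set G) = ⊤ ∨ Nonempty (G ≃* Perm (Fin 6)) := by
  by_cases hb : φ b ∈ pResidual 2 G
  · exact Or.inr (h.case_b hb)
  by_cases hcb : φ (c * b) ∈ pResidual 2 G
  · exact Or.inr (h.twist.case_b hcb)
  exact Or.inl (h.case_klein hb hcb)

end X48Hyp

end Cfsg.Lib.BSW
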